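import Groth.Prelude.Def_PolLaw
import Groth.Prelude.Def_FrobAlg
import Mathlib

/-!
# The `p`-th power law of a purely inseparable extension of height one
-/

set_option autoImplicit false
universe u

open scoped TensorProduct
open FrobAlg (toTwist algebraMap_twist)

namespace Groth.Agent.ZBFrob

variable (p : ℕ) [Fact p.Prime] {k : Type u} [Field k] [CharP k p]

local notation "K" => FrobAlg.Twist p k

variable (S : Type u) [CommSemiring S] [Algebra k S]

theorem add_pow_p (h0 : (p : S) = 0) (x y : S) : (x + y) ^ p = x ^ p + y ^ p := by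
  obtain ⟨r, hr⟩ := exists_add_pow_prime_eq (Fact.out : p.Prime) x y
  rw [hr, h0]
  simp

/-- `s ⊗ a ↦ s ^ p * a`. -/
noncomputable def lift : S ⊗[k] K →+ S :=
  TensorProduct.liftAddHom
    { toFun := fun s =>
        { toFun := fun a : K => s ^ p * algebraMap k S ((toTwist p k).symm a)
          map_zero' := by simp
          map_add' := fun a b => by rw [map_add, map_add, mul_add] }
      map_zero' := by
        refine AddMonoidHom.ext fun a => ?_
        show (0 : S) ^ p * _ = 0
        rw [zero_pow (Fact.out : p.Prime).ne_zero, zero_mul]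
      map_add' := fun s t => by
        refine AddMonoidHom.ext fun a => ?_
        show (s + t) ^ p * _ = s ^ p * _ + t ^ p * _
        rw [add_pow_p p S (by rw [← map_natCast (algebraMap k S), CharP.cast_eq_zero, map_zero]) s t,
          add_mul] }
    (fun c s a => by
      simp only [AddMonoidHom.coe_mk, ZeroHom.coe_mk]
      rw [Algebra.smul_def c a, map_mul, algebraMap_twist, RingEquiv.symm_apply_apply, map_mul,
        map_pow, Algebra.smul_def, mul_pow]
      ring)

theorem lift_tmul (s : S) (a : K) :
    lift p S (s ⊗ₜ[k] a) = s ^ p * algebraMap k S ((toTwist p k).symm a) := rfl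

theorem lift_mul (x y : S ⊗[k] K) : lift p S (x * y) = lift p S x * lift p S y := by
  induction x using TensorProduct.induction_on with
  | zero => simp
  | add a b ha hb => rw [add_mul, map_add, map_add, ha, hb, add_mul]
  | tmul s a =>
    induction y using TensorProduct.induction_on with
    | zero => simp
    | add u v hu hv => rw [mul_add, map_add, map_add, hu, hv, mul_add]
    | tmul t b =>
      rw [Algebra.TensorProduct.tmul_mul_tmul, lift_tmul, lift_tmul, lift_tmul, map_mul, map_mul,
        mul_pow]
      ring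

theorem lift_smul (s : S) (x : S ⊗[k] K) : lift p S (s • x) = s ^ p * lift p S x := by
  induction x using TensorProduct.induction_on with
  | zero => simp
  | add a b ha hb => rw [smul_add, map_add, map_add, ha, hb, mul_add]
  | tmul t a => rw [TensorProduct.smul_tmul', lift_tmul, lift_tmul, smul_eq_mul, mul_pow, mul_assoc]

/-- The `p`-th power law `K → k`. -/
noncomputable def law : K →ₚₗ[k] k where
  toFun' S _ _ := fun x => lift p S x ⊗ₜ[k] (1 : k)
  isCompat' {S} _ _ {S'} _ _ φ := by
    funext x
    simp only [Function.comp_apply, LinearMap.rTensor_tmul, AlgHom.toLinearMap_apply]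
    congr 1
    induction x using TensorProduct.induction_on with
    | zero => simp
    | add a b ha hb => simp only [map_add, ha, hb]
    | tmul s a => simp [lift_tmul]

/-- The law as a multiplicative law of degree `p`. -/
noncomputable def mulLaw : PolLaw.MulLaw k K k p where
  law := law p
  homog S _ _ s x := by
    show lift p S (s • x) ⊗ₜ[k] (1 : k) = s ^ p • (lift p S x ⊗ₜ[k] (1 : k))
    rw [lift_smul, TensorProduct.smul_tmul', smul_eq_mul]
  mult S _ _ := by
    refine ⟨?_, fun x y => ?_⟩
    · show lift p S 1 ⊗ₜ[k] (1 : k) = 1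
      rw [Algebra.TensorProduct.one_def, lift_tmul, one_pow, one_mul, map_one, map_one]
      rfl
    · show lift p S (x * y) ⊗ₜ[k] (1 : k) = lift p S x ⊗ₜ[k] (1 : k) * lift p S y ⊗ₜ[k] (1 : k)
      rw [lift_mul, Algebra.TensorProduct.tmul_mul_tmul, one_mul]

theorem mulLaw_tmul (s : S) (a : K) :
    (mulLaw p).law.toFun' S (s ⊗ₜ[k] a) = (s ^ p) ⊗ₜ[k] (toTwist p k).symm a := by
  show lift p S (s ⊗ₜ[k] a) ⊗ₜ[k] (1 : k) = _
  rw [lift_tmul, mul_comm, ← Algebra.smul_def, TensorProduct.smul_tmul, smul_eq_mul, mul_one]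

theorem ker_eq_bot (F : PolLaw.MulLaw k K k p)
    (hF : ∀ a : K, F.law.toFun' k ((1 : k) ⊗ₜ[k] a) = ((1 : k) ^ p) ⊗ₜ[k] (toTwist p k).symm a) :
    PolLaw.ker F.law = ⊥ := by
  refine eq_bot_iff.mpr fun b hb => ?_
  have h := hb k 0 1
  rw [zero_add, one_mul, hF, ← TensorProduct.tmul_zero K (1 : k), hF, one_pow, map_zero] at h
  have := congrArg (TensorProduct.lid k k) h
  simpa using this

/-- In infinitely many variables the extension is not finite. -/
theorem not_finite : ¬ Module.Finite (FractionRing (MvPolynomial ℕ (ZMod p)))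
    (FrobAlg.Twist p (FractionRing (MvPolynomial ℕ (ZMod p)))) := by
  classical
  let P := MvPolynomial ℕ (ZMod p)
  let L := FractionRing P
  intro hfin
  obtain ⟨s, hs⟩ := hfin.fg_top
  obtain ⟨⟨h, hh⟩, hint⟩ := IsLocalization.exist_integer_multiples (nonZeroDivisors P) s
    (fun x => ((toTwist p L).symm x : L))
  choose g hg using hint
  let vs : Finset ℕ := h.vars ∪ s.attach.biUnion fun x => (g x.1 x.2).vars
  obtain ⟨N, hN⟩ := Infinite.exists_notMem_finset vs
  let tN : FrobAlg.Twist p L := toTwist p L (algebraMap P L (MvPolynomial.X N))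
  have hmem : tN ∈ Submodule.span L (s : Set (FrobAlg.Twist p L)) := hs ▸ trivial
  obtain ⟨c, -, hc⟩ := Submodule.mem_span_finset.mp hmem
  obtain ⟨⟨w, hw⟩, hwint⟩ := IsLocalization.exist_integer_multiples (nonZeroDivisors P) s c
  choose v hv using hwint
  have hc' : ∑ x ∈ s, c x ^ p * (toTwist p L).symm x = algebraMap P L (MvPolynomial.X N) := by
    have := congrArg (toTwist p L).symm hc
    rw [map_sum, RingEquiv.symm_apply_apply] at this
    rw [← this]
    refine Finset.sum_congr rfl fun x _ => ?_
    rw [Algebra.smul_def, map_mul, algebraMap_twist, RingEquiv.symm_apply_apply]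
  have key : MvPolynomial.X N * (w ^ p * h) =
      ∑ x ∈ s.attach, v x.1 x.2 ^ p * g x.1 x.2 := by
    apply IsFractionRing.injective P L
    rw [map_mul, map_mul, map_pow, map_sum, ← hc', Finset.sum_mul, ← Finset.sum_attach]
    refine Finset.sum_congr rfl fun x _ => ?_
    rw [map_mul, map_pow, hv x.1 x.2, hg x.1 x.2,
      Algebra.smul_def, Algebra.smul_def]
    ring
  have hd := congrArg (MvPolynomial.pderiv N) key
  have hp0 : ((p : ℕ) : P) = 0 := CharP.cast_eq_zero P p
  have hhN : MvPolynomial.pderiv N h = 0 :=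
    MvPolynomial.pderiv_eq_zero_of_notMem_vars fun hm => hN (Finset.mem_union_left _ hm)
  rw [MvPolynomial.pderiv_mul, MvPolynomial.pderiv_X_self, one_mul, MvPolynomial.pderiv_mul,
    MvPolynomial.pderiv_pow, hp0, hhN, map_sum] at hd
  rw [Finset.sum_eq_zero] at hd
  · simp only [zero_mul, mul_zero, add_zero] at hd
    rcases mul_eq_zero.mp hd with h1 | h1
    · exact nonZeroDivisors.ne_zero hw (eq_zero_of_pow_eq_zero h1)
    · exact nonZeroDivisors.ne_zero hh h1
  · intro x hx
    have hxN : MvPolynomial.pderiv N (g x.1 x.2) = 0 :=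
      MvPolynomial.pderiv_eq_zero_of_notMem_vars fun hm =>
        hN (Finset.mem_union_right _ (Finset.mem_biUnion.mpr ⟨x, hx, hm⟩))
    rw [MvPolynomial.pderiv_mul, MvPolynomial.pderiv_pow, hp0, hxN]
    simp

end Groth.Agent.ZBFrob
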